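import Mathlib
import Cfsg.Prelude.Def_Transfer
import Cfsg.Prelude.Def_Local
import Cfsg.Agent.Lib.Helper11.PSolvCoprime
import Cfsg.Agent.Lib.Helper87.PGroupFrattini

/-!
# A lemma of Bender on `p`-soluble groups (two conjugates of a `p`-subgroup)

`M` finite `p`-soluble, `A` a `p`-subgroup with `Φ(A) ≤ O_p(M)`, `A ≰ O_p(M)`: there is
`x ∈ O_{p,p'}(M)` such that `L = ⟨A, xAx⁻¹⟩` has `x ∈ O^p(L) ≤ O_{p,p'}(M)`, `[O^p(L), A] = O^p(L)`,
`|A : A ∩ O_p(L)| = p` and `[A ∩ O_p(L), L] ≤ O_p(M)`.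
-/

set_option autoImplicit false

namespace Cfsg.Agent.Lib.Helper46.BPS

open Cfsg
open scoped commutatorElement

theorem pow_eq_one_of_coprime {G : Type*} [Group G] (g : G) (m n : ℕ) (hm : g ^ m = 1)
    (hn : g ^ n = 1) (h : m.Coprime n) : g = 1 := by
  have h1 : g ^ Nat.gcd m n = 1 := pow_gcd_eq_one.mpr ⟨hm, hn⟩
  have h2 : Nat.gcd m n = 1 := h
  rwa [h2, pow_one] at h1

theorem le_normalizer_of_conj {G : Type*} [Group G] (A H : Subgroup G)
    (h : ∀ a ∈ A, ∀ x ∈ H, a * x * a⁻¹ ∈ H) : A ≤ Subgroup.normalizer (H : Set G) := by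
  intro a ha
  rw [Subgroup.mem_normalizer_iff]
  intro x
  constructor
  · exact h a ha x
  · intro hx
    have h1 := h a⁻¹ (A.inv_mem ha) _ hx
    have h2 : a⁻¹ * (a * x * a⁻¹) * a⁻¹⁻¹ = x := by group
    rwa [h2] at h1

theorem pRes_normal (p : ℕ) (G : Type*) [Group G] : (Cfsg.pResidual p G).Normal := by
  have h : Cfsg.pResidual p G = Subgroup.normalClosure {g : G | Nat.Coprime (orderOf g) p} := by
    apply le_antisymm
    · exact Subgroup.closure_le_normalClosure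
    · unfold Cfsg.pResidual Subgroup.normalClosure
      apply Subgroup.closure_mono
      intro x hx
      rw [Group.mem_conjugatesOfSet_iff] at hx
      obtain ⟨a, ha, hax⟩ := hx
      obtain ⟨c, hc⟩ := isConj_iff.mp hax
      show Nat.Coprime (orderOf x) p
      rw [← hc]
      have h1 : orderOf (c * a * c⁻¹) = orderOf a :=
        orderOf_injective (MulAut.conj c).toMonoidHom (MulAut.conj c).injective a
      rw [h1]
      exact ha
  rw [h]
  exact Subgroup.normalClosure_normal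

theorem mem_of_coprime_order {G : Type*} [Group G] {p : ℕ} (N₁ : Subgroup G) [N₁.Normal]
    (hq : IsPGroup p (G ⧸ N₁)) (g : G) (hg : (orderOf g).Coprime p) : g ∈ N₁ := by
  obtain ⟨k, hk⟩ := hq (QuotientGroup.mk g)
  have h1 : (QuotientGroup.mk g : G ⧸ N₁) ^ orderOf g = 1 := by
    rw [← QuotientGroup.mk_pow, pow_orderOf_eq_one]
    rfl
  have h2 := pow_eq_one_of_coprime _ _ _ h1 hk (Nat.Coprime.pow_right k hg)
  exact (QuotientGroup.eq_one_iff g).mp h2

theorem mem_opOf {M : Type*} [Group M] {p : ℕ} (L : Subgroup M) {g : M} (hg : g ∈ L)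
    (ho : (orderOf g).Coprime p) : g ∈ (Cfsg.pResidual p ↥L).map L.subtype := by
  refine ⟨⟨g, hg⟩, Subgroup.subset_closure ?_, rfl⟩
  show (orderOf (⟨g, hg⟩ : L)).Coprime p
  rw [Subgroup.orderOf_mk]
  exact ho

theorem opOf_le {M : Type*} [Group M] {p : ℕ} (L X : Subgroup M)
    (h : ∀ g ∈ L, (orderOf g).Coprime p → g ∈ X) :
    (Cfsg.pResidual p ↥L).map L.subtype ≤ X := by
  rw [Subgroup.map_le_iff_le_comap]
  unfold Cfsg.pResidual
  rw [Subgroup.closure_le]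
  intro g hg
  have hg' : (orderOf g).Coprime p := hg
  rw [← Subgroup.orderOf_coe] at hg'
  exact h g.1 g.2 hg'

theorem opOf_conj {M : Type*} [Group M] {p : ℕ} (L : Subgroup M) {l k : M} (hl : l ∈ L)
    (hk : k ∈ (Cfsg.pResidual p ↥L).map L.subtype) :
    l * k * l⁻¹ ∈ (Cfsg.pResidual p ↥L).map L.subtype := by
  obtain ⟨k', hk', rfl⟩ := hk
  have hn := pRes_normal p ↥L
  exact ⟨⟨l, hl⟩ * k' * ⟨l, hl⟩⁻¹, hn.conj_mem k' hk' ⟨l, hl⟩, rfl⟩

theorem le_pCoreOf {M : Type*} [Group M] {p : ℕ} (L P : Subgroup M) (hPL : P ≤ L)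
    (hP : IsPGroup p P) (h : ∀ l ∈ L, ∀ g ∈ P, l * g * l⁻¹ ∈ P) :
    P ≤ (Cfsg.pCore p ↥L).map L.subtype := by
  have hn : (P.subgroupOf L).Normal := by
    constructor
    intro n hn g
    rw [Subgroup.mem_subgroupOf] at hn ⊢
    exact h g.1 g.2 n.1 hn
  have hp : IsPGroup p (P.subgroupOf L) := hP.comap_subtype
  have h1 : P.subgroupOf L ≤ Cfsg.pCore p ↥L := le_sSup ⟨hn, hp⟩
  intro g hg
  exact ⟨⟨g, hPL hg⟩, h1 (by rw [Subgroup.mem_subgroupOf]; exact hg), rfl⟩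

theorem pCoreOf_conj {M : Type*} [Group M] {p : ℕ} (L : Subgroup M) {l g : M} (hl : l ∈ L)
    (hg : g ∈ (Cfsg.pCore p ↥L).map L.subtype) :
    l * g * l⁻¹ ∈ (Cfsg.pCore p ↥L).map L.subtype := by
  obtain ⟨g', hg', rfl⟩ := hg
  have hn : (Cfsg.pCore p ↥L).Normal := inferInstance
  exact ⟨⟨l, hl⟩ * g' * ⟨l, hl⟩⁻¹, hn.conj_mem g' hg' ⟨l, hl⟩, rfl⟩

theorem pCoreOf_isPGroup {M : Type*} [Group M] [Finite M] {p : ℕ} [Fact p.Prime]
    (L : Subgroup M) : IsPGroup p ((Cfsg.pCore p ↥L).map L.subtype) :=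
  (Cfsg.Agent.Lib.Helper63.pCore_isPGroup' p ↥L).map _

theorem pCore_quot_eq_bot {M : Type*} [Group M] [Finite M] (p : ℕ) [Fact p.Prime] :
    Cfsg.pCore p (M ⧸ Cfsg.pCore p M) = ⊥ := by
  have hN : IsPGroup p (Cfsg.pCore p (M ⧸ Cfsg.pCore p M)) :=
    Cfsg.Agent.Lib.Helper63.pCore_isPGroup' p _
  have hP : IsPGroup p (Cfsg.pCore p M) := Cfsg.Agent.Lib.Helper63.pCore_isPGroup' p M
  obtain ⟨C, hC⟩ : ∃ C : Subgroup M, C = (Cfsg.pCore p (M ⧸ Cfsg.pCore p M)).comap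
      (QuotientGroup.mk' (Cfsg.pCore p M)) := ⟨_, rfl⟩
  have hCn : C.Normal := by rw [hC]; infer_instance
  have hCmem : ∀ g : M, g ∈ C →
      (QuotientGroup.mk g : M ⧸ Cfsg.pCore p M) ∈ Cfsg.pCore p (M ⧸ Cfsg.pCore p M) := by
    intro g hg; rw [hC] at hg; exact hg
  have hCp : IsPGroup p C := by
    rintro ⟨g, hg⟩
    obtain ⟨k, hk⟩ := hN ⟨QuotientGroup.mk g, hCmem g hg⟩
    have h1 : g ^ p ^ k ∈ Cfsg.pCore p M := by
      rw [← QuotientGroup.eq_one_iff]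
      have := congrArg Subtype.val hk
      simpa using this
    obtain ⟨j, hj⟩ := hP ⟨g ^ p ^ k, h1⟩
    refine ⟨k + j, Subtype.ext ?_⟩
    have h2 := congrArg Subtype.val hj
    simp only [Subgroup.coe_pow, Subgroup.coe_one] at h2 ⊢
    rw [pow_add, pow_mul]
    exact h2
  have hle : C ≤ Cfsg.pCore p M := le_sSup ⟨hCn, hCp⟩
  rw [eq_bot_iff]
  intro y hy
  obtain ⟨g, rfl⟩ := QuotientGroup.mk'_surjective _ y
  rw [Subgroup.mem_bot]
  have hgC : g ∈ C := by rw [hC]; exact hy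
  exact (QuotientGroup.eq_one_iff g).mpr (hle hgC)

/-- If `Λ = ⟨A, xAx⁻¹⟩` with `A` a `p`-group and `x ∈ O^p(Λ)`, then `[O^p(Λ), A] = O^p(Λ)`. -/
theorem comm_eq_of_gen {Λ : Type*} [Group Λ] [Finite Λ] {p : ℕ} [Fact p.Prime] (A : Subgroup Λ)
    (hA : IsPGroup p A) (x : Λ) (hx : x ∈ Cfsg.pResidual p Λ)
    (hgen : A ⊔ A.map (MulAut.conj x).toMonoidHom = ⊤) :
    ⁅Cfsg.pResidual p Λ, A⁆ = Cfsg.pResidual p Λ := by
  have hKn : (Cfsg.pResidual p Λ).Normal := pRes_normal p Λ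
  apply le_antisymm
  · exact Subgroup.commutator_le_left _ _
  · have hA_norm : ∀ a ∈ A, ∀ n ∈ ⁅Cfsg.pResidual p Λ, A⁆,
        a * n * a⁻¹ ∈ ⁅Cfsg.pResidual p Λ, A⁆ := by
      intro a ha n hn
      have h1 : a * n * a⁻¹ ∈ (⁅Cfsg.pResidual p Λ, A⁆).map (MulAut.conj a).toMonoidHom :=
        ⟨n, hn, rfl⟩
      rw [Subgroup.map_commutator] at h1
      refine Subgroup.commutator_mono ?_ ?_ h1
      · rintro _ ⟨k, hk, rfl⟩
        exact hKn.conj_mem k hk a
      · rintro _ ⟨b, hb, rfl⟩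
        exact A.mul_mem (A.mul_mem ha hb) (A.inv_mem ha)
    have hK_norm : ∀ k' ∈ Cfsg.pResidual p Λ, ∀ n ∈ ⁅Cfsg.pResidual p Λ, A⁆,
        k' * n * k'⁻¹ ∈ ⁅Cfsg.pResidual p Λ, A⁆ := by
      intro k' hk' n hn
      have h1 : ⁅Cfsg.pResidual p Λ, A⁆ ≤
          (⁅Cfsg.pResidual p Λ, A⁆).comap (MulAut.conj k').toMonoidHom := by
        rw [Subgroup.commutator_le]
        intro k hk a ha
        rw [Subgroup.mem_comap]
        have h2 : (MulAut.conj k').toMonoidHom ⁅k, a⁆ = ⁅k' * k, a⁆ * ⁅k', a⁆⁻¹ := by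
          simp only [MulEquiv.coe_toMonoidHom, MulAut.conj_apply, commutatorElement_def]
          group
        rw [h2]
        exact Subgroup.mul_mem _
          (Subgroup.commutator_mem_commutator (Subgroup.mul_mem _ hk' hk) ha)
          (Subgroup.inv_mem _ (Subgroup.commutator_mem_commutator hk' ha))
      exact h1 hn
    have hnorm : (⁅Cfsg.pResidual p Λ, A⁆).Normal := by
      rw [← Subgroup.normalizer_eq_top_iff, eq_top_iff, ← hgen]
      apply sup_le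
      · exact le_normalizer_of_conj A _ hA_norm
      · have hxT : x ∈ Subgroup.normalizer ((⁅Cfsg.pResidual p Λ, A⁆ : Subgroup Λ) : Set Λ) :=
          le_normalizer_of_conj (Cfsg.pResidual p Λ) _ hK_norm hx
        rintro _ ⟨a, ha, rfl⟩
        exact Subgroup.mul_mem _ (Subgroup.mul_mem _ hxT (le_normalizer_of_conj A _ hA_norm ha))
          (Subgroup.inv_mem _ hxT)
    have hq : IsPGroup p (Λ ⧸ ⁅Cfsg.pResidual p Λ, A⁆) := by
      intro y
      obtain ⟨g, rfl⟩ := QuotientGroup.mk_surjective y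
      have hle : A ⊔ A.map (MulAut.conj x).toMonoidHom ≤
          (A.map (QuotientGroup.mk' ⁅Cfsg.pResidual p Λ, A⁆)).comap
            (QuotientGroup.mk' ⁅Cfsg.pResidual p Λ, A⁆) := by
        apply sup_le
        · exact Subgroup.le_comap_map _ _
        · rintro _ ⟨a, ha, rfl⟩
          rw [Subgroup.mem_comap]
          refine ⟨a, ha, ?_⟩
          have h3 : (x * a * x⁻¹)⁻¹ * a ∈ ⁅Cfsg.pResidual p Λ, A⁆ := by
            have h4 : (x * a * x⁻¹)⁻¹ * a = ⁅x, a⁻¹⁆ := by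
              rw [commutatorElement_def]; group
            rw [h4]
            exact Subgroup.commutator_mem_commutator hx (A.inv_mem ha)
          exact (QuotientGroup.eq.mpr h3).symm
      rw [hgen] at hle
      obtain ⟨a, ha, hag⟩ := hle (Subgroup.mem_top g)
      obtain ⟨k, hk⟩ := hA ⟨a, ha⟩
      refine ⟨k, ?_⟩
      have hak : a ^ p ^ k = 1 := by
        have := congrArg Subtype.val hk
        simpa using this
      have h5 : (QuotientGroup.mk g : Λ ⧸ ⁅Cfsg.pResidual p Λ, A⁆) = QuotientGroup.mk a := hag.symm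
      rw [h5, ← QuotientGroup.mk_pow, hak]
      rfl
    exact (Subgroup.closure_le _).mpr (fun g hg => mem_of_coprime_order _ hq g hg)

/-- The same inside a subgroup `L = ⟨A, xAx⁻¹⟩` of `M`. -/
theorem comm_opOf_eq {M : Type*} [Group M] [Finite M] {p : ℕ} [Fact p.Prime] (A : Subgroup M)
    (hA : IsPGroup p A) (x : M) (L : Subgroup M) (hL : L = A ⊔ A.map (MulAut.conj x).toMonoidHom)
    (hx : x ∈ (Cfsg.pResidual p ↥L).map L.subtype) :
    ⁅(Cfsg.pResidual p ↥L).map L.subtype, A⁆ = (Cfsg.pResidual p ↥L).map L.subtype := by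
  have hAL : A ≤ L := by rw [hL]; exact le_sup_left
  obtain ⟨x', hx', hxx⟩ := hx
  have hgen : A.subgroupOf L ⊔ (A.subgroupOf L).map (MulAut.conj x').toMonoidHom = ⊤ := by
    apply Subgroup.map_injective L.subtype_injective
    have hcomp : L.subtype.comp (MulAut.conj x').toMonoidHom =
        (MulAut.conj x).toMonoidHom.comp L.subtype := by
      ext g
      simp [← hxx]
    rw [Subgroup.map_sup, Subgroup.map_map, ← MonoidHom.range_eq_map, Subgroup.range_subtype,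
      hcomp, ← Subgroup.map_map, Subgroup.map_subgroupOf_eq_of_le hAL]
    exact hL.symm
  have key := comm_eq_of_gen (A.subgroupOf L) hA.comap_subtype x' hx' hgen
  have h2 := congrArg (Subgroup.map L.subtype) key
  rw [Subgroup.map_commutator, Subgroup.map_subgroupOf_eq_of_le hAL] at h2
  exact h2

theorem comm_ne_of_ne {G : Type*} [Group G] {p : ℕ} (x a : G) (m : ℕ) (hm : m.Coprime p)
    (hap : a ^ p = 1) (hcm : (x * a * x⁻¹ * a⁻¹) ^ m = 1) (hne : x * a ≠ a * x) :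
    (x * a * x⁻¹ * a⁻¹) * a ≠ a * (x * a * x⁻¹ * a⁻¹) := by
  intro hc
  apply hne
  have h1 : (x * a * x⁻¹ * a⁻¹) * a = x * a * x⁻¹ := by group
  have h2 : ((x * a * x⁻¹ * a⁻¹) * a) ^ p = 1 := by
    rw [h1, conj_pow, hap]
    group
  have h3 : ((x * a * x⁻¹ * a⁻¹) * a) ^ p = (x * a * x⁻¹ * a⁻¹) ^ p * a ^ p :=
    Commute.mul_pow hc p
  rw [h3, hap, mul_one] at h2
  have h4 := pow_eq_one_of_coprime _ m p hcm h2 hm
  calc x * a = (x * a * x⁻¹ * a⁻¹) * (a * x) := by group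
    _ = a * x := by rw [h4, one_mul]

theorem exists_pprime_pow {G : Type*} [Group G] {p : ℕ} (c a : G) (m j : ℕ) (hm : m.Coprime p)
    (hcm : c ^ m = 1) (hne : c * a ≠ a * c) : c ^ p ^ j * a ≠ a * c ^ p ^ j := by
  intro hc
  apply hne
  have hb : IsCoprime ((p ^ j : ℕ) : ℤ) (m : ℤ) :=
    Nat.isCoprime_iff_coprime.mpr (Nat.Coprime.pow_left j hm.symm)
  obtain ⟨u, v, huv⟩ := hb
  have hcb : c = (c ^ p ^ j) ^ u := by
    have h1 : c = c ^ (u * ((p ^ j : ℕ) : ℤ) + v * (m : ℤ)) := by rw [huv, zpow_one]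
    rw [zpow_add, mul_comm u, zpow_mul, zpow_natCast, mul_comm v, zpow_mul, zpow_natCast, hcm,
      one_zpow, mul_one] at h1
    exact h1
  have hc' : Commute (c ^ p ^ j) a := hc
  have h2 : Commute ((c ^ p ^ j) ^ u) a := hc'.zpow_left u
  rw [← hcb] at h2
  exact h2

theorem relIndex_eq_prime {G : Type*} [Group G] (A C : Subgroup G) (p : ℕ) [Fact p.Prime]
    (a₁ : G) (ha₁ : a₁ ∈ A) (hn : a₁ ∉ C) (hp : a₁ ^ p ∈ C)
    (hnorm : ∀ a ∈ A, ∀ b ∈ A ⊓ C, a * b * a⁻¹ ∈ C)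
    (hgen : ∀ a ∈ A, ∃ j : ℕ, a * a₁ ^ j ∈ C) : (A ⊓ C).relIndex A = p := by
  have hB : ((A ⊓ C).subgroupOf A).Normal := by
    constructor
    intro n hn g
    rw [Subgroup.mem_subgroupOf] at hn ⊢
    refine Subgroup.mem_inf.mpr ⟨(g * n * g⁻¹).2, ?_⟩
    exact hnorm g.1 g.2 n.1 hn
  have hall : ∀ q : ↥A ⧸ (A ⊓ C).subgroupOf A,
      q ∈ Subgroup.zpowers (QuotientGroup.mk ⟨a₁, ha₁⟩ : ↥A ⧸ (A ⊓ C).subgroupOf A) := by
    intro q
    obtain ⟨a, rfl⟩ := QuotientGroup.mk_surjective q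
    obtain ⟨j, hj⟩ := hgen a.1 a.2
    have h1 : (QuotientGroup.mk (a * ⟨a₁, ha₁⟩ ^ j) : ↥A ⧸ (A ⊓ C).subgroupOf A) = 1 := by
      rw [QuotientGroup.eq_one_iff, Subgroup.mem_subgroupOf]
      exact Subgroup.mem_inf.mpr ⟨(a * ⟨a₁, ha₁⟩ ^ j).2, hj⟩
    rw [QuotientGroup.mk_mul, QuotientGroup.mk_pow] at h1
    have h2 : (QuotientGroup.mk a : ↥A ⧸ (A ⊓ C).subgroupOf A) =
        ((QuotientGroup.mk ⟨a₁, ha₁⟩ : ↥A ⧸ (A ⊓ C).subgroupOf A) ^ j)⁻¹ :=
      eq_inv_of_mul_eq_one_left h1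
    rw [h2]
    exact Subgroup.inv_mem _ (Subgroup.pow_mem _ (Subgroup.mem_zpowers _) j)
  have hpow : (QuotientGroup.mk ⟨a₁, ha₁⟩ : ↥A ⧸ (A ⊓ C).subgroupOf A) ^ p = 1 := by
    rw [← QuotientGroup.mk_pow, QuotientGroup.eq_one_iff, Subgroup.mem_subgroupOf]
    exact Subgroup.mem_inf.mpr ⟨((⟨a₁, ha₁⟩ : A) ^ p).2, hp⟩
  have hne : (QuotientGroup.mk ⟨a₁, ha₁⟩ : ↥A ⧸ (A ⊓ C).subgroupOf A) ≠ 1 := by
    intro h
    rw [QuotientGroup.eq_one_iff, Subgroup.mem_subgroupOf] at h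
    exact hn (Subgroup.mem_inf.mp h).2
  have hord := orderOf_eq_prime hpow hne
  have hcard := orderOf_eq_card_of_forall_mem_zpowers hall
  show ((A ⊓ C).subgroupOf A).index = p
  rw [Subgroup.index_eq_card, ← hcard, hord]

/-- Core of the argument: `(ii)`, `(iv)`, `(v)` for a minimal choice of `x`. -/
theorem core {M : Type*} [Group M] [Finite M] {p : ℕ} [Fact p.Prime]
    (N : Subgroup M) [N.Normal] (hNp : IsPGroup p N) (W : Subgroup M) [hWn : W.Normal]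
    (hWm : ∀ w ∈ W, ∃ m : ℕ, m.Coprime p ∧ (QuotientGroup.mk' N w) ^ m = 1)
    (hWc : ¬ p ∣ Nat.card (W.map (QuotientGroup.mk' N)))
    (A : Subgroup M) (hA : IsPGroup p A)
    (hAc : ∀ a ∈ A, ∀ b ∈ A, QuotientGroup.mk' N a * QuotientGroup.mk' N b =
      QuotientGroup.mk' N b * QuotientGroup.mk' N a)
    (hAe : ∀ a ∈ A, (QuotientGroup.mk' N a) ^ p = 1)
    (x : M) (L : Subgroup M) (hL : L = A ⊔ A.map (MulAut.conj x).toMonoidHom)
    (hxW : x ∈ W) (a₁ : M) (ha₁ : a₁ ∈ A)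
    (hxa : QuotientGroup.mk' N x * QuotientGroup.mk' N a₁ ≠
      QuotientGroup.mk' N a₁ * QuotientGroup.mk' N x)
    (hxK : x ∈ (Cfsg.pResidual p ↥L).map L.subtype)
    (hmin : ∀ y ∈ W, (∃ a ∈ A, QuotientGroup.mk' N y * QuotientGroup.mk' N a ≠
        QuotientGroup.mk' N a * QuotientGroup.mk' N y) →
      A ⊔ A.map (MulAut.conj y).toMonoidHom ≤ L → A ⊔ A.map (MulAut.conj y).toMonoidHom = L) :
    (Cfsg.pResidual p ↥L).map L.subtype ≤ W ∧
    (A ⊓ (Cfsg.pCore p ↥L).map L.subtype).relIndex A = p ∧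
    ⁅A ⊓ (Cfsg.pCore p ↥L).map L.subtype, L⁆ ≤ N := by
  set π := QuotientGroup.mk' N with hπ
  have hpp : p.Prime := Fact.out
  have hAL : A ≤ L := by rw [hL]; exact le_sup_left
  set K := (Cfsg.pResidual p ↥L).map L.subtype with hK
  have hKL : K ≤ L := Subgroup.map_subtype_le _
  have hxL : x ∈ L := hKL hxK
  have hLW : ∀ g ∈ L, (orderOf g).Coprime p → g ∈ W := by
    intro g hg ho
    have hle : L ≤ (A.map (QuotientGroup.mk' W)).comap (QuotientGroup.mk' W) := by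
      rw [hL]
      apply sup_le
      · exact Subgroup.le_comap_map _ _
      · rintro _ ⟨a, ha, rfl⟩
        rw [Subgroup.mem_comap]
        refine ⟨a, ha, ?_⟩
        have h3 : (x * a * x⁻¹)⁻¹ * a ∈ W := by
          have h4 : (x * a * x⁻¹)⁻¹ * a = x * (a⁻¹ * x⁻¹ * a⁻¹⁻¹) := by group
          rw [h4]
          exact W.mul_mem hxW (hWn.conj_mem x⁻¹ (W.inv_mem hxW) a⁻¹)
        exact (QuotientGroup.eq.mpr h3).symm
    obtain ⟨a, ha, hag⟩ := hle hg
    obtain ⟨k, hk⟩ := hA ⟨a, ha⟩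
    have hak : a ^ p ^ k = 1 := by
      have := congrArg Subtype.val hk
      simpa using this
    have h1 : (QuotientGroup.mk g : M ⧸ W) ^ p ^ k = 1 := by
      have h5 : (QuotientGroup.mk g : M ⧸ W) = QuotientGroup.mk a := hag.symm
      rw [h5, ← QuotientGroup.mk_pow, hak]
      rfl
    have h2 : (QuotientGroup.mk g : M ⧸ W) ^ orderOf g = 1 := by
      rw [← QuotientGroup.mk_pow, pow_orderOf_eq_one]
      rfl
    have h3 := pow_eq_one_of_coprime _ _ _ h2 h1 (Nat.Coprime.pow_right k ho)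
    exact (QuotientGroup.eq_one_iff g).mp h3
  have hKW : K ≤ W := opOf_le L W hLW
  have hKconj : ∀ l ∈ L, ∀ k ∈ K, l * k * l⁻¹ ∈ K := fun l hl k hk => opOf_conj L hl hk
  set C := (Subgroup.centralizer ((K.map π : Subgroup (M ⧸ N)) : Set (M ⧸ N))).comap π with hC
  have hC_of : ∀ g : M, (∀ k ∈ K, π k * π g = π g * π k) → g ∈ C := by
    intro g h
    rw [hC, Subgroup.mem_comap, Subgroup.mem_centralizer_iff]
    rintro _ ⟨k, hk, rfl⟩
    exact h k hk
  have hC_to : ∀ g ∈ C, ∀ k ∈ K, π k * π g = π g * π k := by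
    intro g hg k hk
    rw [hC, Subgroup.mem_comap, Subgroup.mem_centralizer_iff] at hg
    exact hg (π k) ⟨k, hk, rfl⟩
  have h0 : ∀ b ∈ A ⊓ C, ∀ l ∈ L, π b * π l = π l * π b := by
    intro b hb l hl
    have hle : L ≤ (Subgroup.centralizer ({π b} : Set (M ⧸ N))).comap π := by
      have hAle : A ≤ (Subgroup.centralizer ({π b} : Set (M ⧸ N))).comap π := by
        intro a ha
        rw [Subgroup.mem_comap, Subgroup.mem_centralizer_iff]
        intro h hh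
        rw [Set.mem_singleton_iff] at hh
        subst hh
        exact hAc b (Subgroup.mem_inf.mp hb).1 a ha
      have hxle : x ∈ (Subgroup.centralizer ({π b} : Set (M ⧸ N))).comap π := by
        rw [Subgroup.mem_comap, Subgroup.mem_centralizer_iff]
        intro h hh
        rw [Set.mem_singleton_iff] at hh
        subst hh
        exact (hC_to b (Subgroup.mem_inf.mp hb).2 x hxK).symm
      rw [hL]
      apply sup_le hAle
      rintro _ ⟨a, ha, rfl⟩
      exact Subgroup.mul_mem _ (Subgroup.mul_mem _ hxle (hAle ha)) (Subgroup.inv_mem _ hxle)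
    have h3 := hle hl
    rw [Subgroup.mem_comap, Subgroup.mem_centralizer_iff] at h3
    exact h3 (π b) (Set.mem_singleton _)
  have h1 : A ⊓ C ≤ (Cfsg.pCore p ↥L).map L.subtype := by
    have hPp : IsPGroup p ↥(L ⊓ ((A ⊓ C).map π).comap π) := by
      rintro ⟨g, hg⟩
      have hg2 := (Subgroup.mem_inf.mp hg).2
      rw [Subgroup.mem_comap] at hg2
      obtain ⟨b, hb, hbg⟩ := hg2
      obtain ⟨k, hk⟩ := hA ⟨b, (Subgroup.mem_inf.mp hb).1⟩
      have hbk : b ^ p ^ k = 1 := by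
        have := congrArg Subtype.val hk
        simpa using this
      have h3 : g ^ p ^ k ∈ N := by
        rw [← QuotientGroup.eq_one_iff]
        have h4 : (π g) ^ p ^ k = 1 := by rw [← hbg, ← map_pow, hbk, map_one]
        rw [← map_pow] at h4
        exact h4
      obtain ⟨j, hj⟩ := hNp ⟨g ^ p ^ k, h3⟩
      refine ⟨k + j, Subtype.ext ?_⟩
      have h4 := congrArg Subtype.val hj
      simp only [Subgroup.coe_pow, Subgroup.coe_one] at h4 ⊢
      rw [pow_add, pow_mul]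
      exact h4
    have hPn : ∀ l ∈ L, ∀ g ∈ L ⊓ ((A ⊓ C).map π).comap π,
        l * g * l⁻¹ ∈ L ⊓ ((A ⊓ C).map π).comap π := by
      intro l hl g hg
      have hg1 := (Subgroup.mem_inf.mp hg).1
      have hg2 := (Subgroup.mem_inf.mp hg).2
      rw [Subgroup.mem_comap] at hg2
      obtain ⟨b, hb, hbg⟩ := hg2
      refine Subgroup.mem_inf.mpr ⟨L.mul_mem (L.mul_mem hl hg1) (L.inv_mem hl), ?_⟩
      rw [Subgroup.mem_comap]
      refine ⟨b, hb, ?_⟩
      rw [map_mul, map_mul, map_inv, ← hbg, ← h0 b hb l hl]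
      group
    have hAP : A ⊓ C ≤ L ⊓ ((A ⊓ C).map π).comap π := by
      intro b hb
      exact Subgroup.mem_inf.mpr ⟨hAL (Subgroup.mem_inf.mp hb).1,
        Subgroup.mem_comap.mpr (Subgroup.mem_map_of_mem π hb)⟩
    exact hAP.trans (le_pCoreOf L _ inf_le_left hPp hPn)
  have h2 : ∀ g ∈ (Cfsg.pCore p ↥L).map L.subtype, g ∈ C := by
    intro g hg
    apply hC_of
    intro k hk
    have hcO : g * k * g⁻¹ * k⁻¹ ∈ (Cfsg.pCore p ↥L).map L.subtype := by
      have h3 : g * k * g⁻¹ * k⁻¹ = g * (k * g⁻¹ * k⁻¹) := by group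
      rw [h3]
      exact Subgroup.mul_mem _ hg (pCoreOf_conj L (hKL hk) (Subgroup.inv_mem _ hg))
    have hcW : g * k * g⁻¹ * k⁻¹ ∈ W :=
      W.mul_mem (hWn.conj_mem k (hKW hk) g) (W.inv_mem (hKW hk))
    obtain ⟨j, hj⟩ := pCoreOf_isPGroup (p := p) L ⟨_, hcO⟩
    have hcj : (g * k * g⁻¹ * k⁻¹) ^ p ^ j = 1 := by
      have := congrArg Subtype.val hj
      simpa using this
    obtain ⟨m, hm, hcm⟩ := hWm _ hcW
    have hπj : (π (g * k * g⁻¹ * k⁻¹)) ^ p ^ j = 1 := by rw [← map_pow, hcj, map_one]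
    have h4 := pow_eq_one_of_coprime _ _ _ hcm hπj (Nat.Coprime.pow_right j hm)
    rw [map_mul, map_mul, map_mul, map_inv, map_inv] at h4
    calc π k * π g = (π g * π k * (π g)⁻¹ * (π k)⁻¹)⁻¹ * (π g * π k) := by group
      _ = π g * π k := by rw [h4, inv_one, one_mul]
  have hBeq : A ⊓ (Cfsg.pCore p ↥L).map L.subtype = A ⊓ C :=
    le_antisymm (le_inf inf_le_left (fun g hg => h2 g (Subgroup.mem_inf.mp hg).2))
      (le_inf inf_le_left h1)
  have hv : ⁅A ⊓ (Cfsg.pCore p ↥L).map L.subtype, L⁆ ≤ N := by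
    rw [hBeq, Subgroup.commutator_le]
    intro b hb l hl
    rw [← QuotientGroup.eq_one_iff]
    show π ⁅b, l⁆ = 1
    rw [commutatorElement_def, map_mul, map_mul, map_mul, map_inv, map_inv, h0 b hb l hl]
    group
  have hiv : (A ⊓ (Cfsg.pCore p ↥L).map L.subtype).relIndex A = p := by
    rw [hBeq]
    have ha₁C : a₁ ∉ C := fun h => hxa (hC_to a₁ h x hxK)
    have hp₁ : a₁ ^ p ∈ C := by
      apply hC_of
      intro k hk
      rw [map_pow, hAe a₁ ha₁, mul_one, one_mul]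
    have hnormC : ∀ a ∈ A, ∀ b ∈ A ⊓ C, a * b * a⁻¹ ∈ C := by
      intro a ha b hb
      apply hC_of
      intro k hk
      have h3 : π (a * b * a⁻¹) = π b := by
        rw [map_mul, map_mul, map_inv, hAc a ha b (Subgroup.mem_inf.mp hb).1]
        group
      rw [h3]
      exact hC_to b (Subgroup.mem_inf.mp hb).2 k hk
    have hR : ¬ p ∣ Nat.card (K.map π) := by
      intro hdvd
      exact hWc (hdvd.trans (Subgroup.card_dvd_of_le (Subgroup.map_mono hKW)))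
    have hUR : A.map π ≤ Subgroup.normalizer ((K.map π : Subgroup (M ⧸ N)) : Set (M ⧸ N)) := by
      apply le_normalizer_of_conj
      rintro _ ⟨a, ha, rfl⟩ _ ⟨k, hk, rfl⟩
      exact ⟨a * k * a⁻¹, hKconj a (hAL ha) k hk, by simp⟩
    have hgenC : ∀ a ∈ A, ∃ j : ℕ, a * a₁ ^ j ∈ C := by
      by_contra hcon
      push Not at hcon
      obtain ⟨b₁, hb₁, hb₁C⟩ := hcon
      have hpt : ∀ c ∈ A, c ∉ C →
          (K.map π) ⊓ Subgroup.centralizer ({π c} : Set (M ⧸ N)) ≤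
            Subgroup.centralizer ((A.map π : Subgroup (M ⧸ N)) : Set (M ⧸ N)) := by
        intro c hcA hcC z hz
        obtain ⟨y, hyK, rfl⟩ := (Subgroup.mem_inf.mp hz).1
        have hyc := (Subgroup.mem_inf.mp hz).2
        rw [Subgroup.mem_centralizer_iff] at hyc
        have hyc' : π c * π y = π y * π c := hyc (π c) (Set.mem_singleton _)
        by_contra hny
        rw [Subgroup.mem_centralizer_iff] at hny
        push Not at hny
        obtain ⟨_, ⟨a, ha, rfl⟩, hay⟩ := hny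
        have hyL : y ∈ L := hKL hyK
        have hLy : A ⊔ A.map (MulAut.conj y).toMonoidHom ≤ L := by
          apply sup_le hAL
          rintro _ ⟨a', ha', rfl⟩
          exact L.mul_mem (L.mul_mem hyL (hAL ha')) (L.inv_mem hyL)
        have hLeq := hmin y (hKW hyK) ⟨a, ha, fun h => hay h.symm⟩ hLy
        apply hcC
        apply hC_of
        intro k hk
        have hle : A ⊔ A.map (MulAut.conj y).toMonoidHom ≤
            (Subgroup.centralizer ({π c} : Set (M ⧸ N))).comap π := by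
          have hAle : A ≤ (Subgroup.centralizer ({π c} : Set (M ⧸ N))).comap π := by
            intro a' ha'
            rw [Subgroup.mem_comap, Subgroup.mem_centralizer_iff]
            intro h hh
            rw [Set.mem_singleton_iff] at hh
            subst hh
            exact hAc c hcA a' ha'
          have hyle : y ∈ (Subgroup.centralizer ({π c} : Set (M ⧸ N))).comap π := by
            rw [Subgroup.mem_comap, Subgroup.mem_centralizer_iff]
            intro h hh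
            rw [Set.mem_singleton_iff] at hh
            subst hh
            exact hyc'
          apply sup_le hAle
          rintro _ ⟨a', ha', rfl⟩
          exact Subgroup.mul_mem _ (Subgroup.mul_mem _ hyle (hAle ha')) (Subgroup.inv_mem _ hyle)
        rw [hLeq] at hle
        have h3 := hle (hKL hk)
        rw [Subgroup.mem_comap, Subgroup.mem_centralizer_iff] at h3
        exact (h3 (π c) (Set.mem_singleton _)).symm
      have hgen := Cfsg.Agent.Lib.Helper48.coprime_generation (K.map π) (A.map π) (hA.map π) hR hUR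
        (π b₁) (π a₁) (Subgroup.mem_map_of_mem π hb₁) (Subgroup.mem_map_of_mem π ha₁)
        (hAc b₁ hb₁ a₁ ha₁) (hAe b₁ hb₁) (hAe a₁ ha₁)
      have hKY : K.map π ≤ Subgroup.centralizer ((A.map π : Subgroup (M ⧸ N)) : Set (M ⧸ N)) := by
        refine hgen.trans (sup_le (hpt a₁ ha₁ ha₁C) (iSup_le fun i => ?_))
        have h3 := hpt (b₁ * a₁ ^ i) (A.mul_mem hb₁ (A.pow_mem ha₁ i)) (hb₁C i)
        rw [map_mul, map_pow] at h3
        exact h3
      have hxY := hKY (Subgroup.mem_map_of_mem π hxK)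
      rw [Subgroup.mem_centralizer_iff] at hxY
      exact hxa (hxY (π a₁) (Subgroup.mem_map_of_mem π ha₁)).symm
    exact relIndex_eq_prime A C p a₁ ha₁ ha₁C hp₁ hnormC hgenC
  exact ⟨hKW, hiv, hv⟩

/-- **Bender's lemma** on two conjugates of a `p`-subgroup of a `p`-soluble group. -/
theorem main {M : Type*} [Group M] [Finite M] {p : ℕ} [Fact p.Prime]
    (hM : Cfsg.IsPSolvable p M) (A : Subgroup M) (hA : IsPGroup p A)
    (hΦ : (frattini ↥A).map A.subtype ≤ Cfsg.pCore p M) (hnot : ¬ A ≤ Cfsg.pCore p M) :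
    ∃ x ∈ (Cfsg.pPrimeCore p (M ⧸ Cfsg.pCore p M)).comap (QuotientGroup.mk' (Cfsg.pCore p M)),
      x ∈ (Cfsg.pResidual p ↥(A ⊔ A.map (MulAut.conj x).toMonoidHom)).map
          (A ⊔ A.map (MulAut.conj x).toMonoidHom).subtype ∧
      (Cfsg.pResidual p ↥(A ⊔ A.map (MulAut.conj x).toMonoidHom)).map
          (A ⊔ A.map (MulAut.conj x).toMonoidHom).subtype ≤
        (Cfsg.pPrimeCore p (M ⧸ Cfsg.pCore p M)).comap (QuotientGroup.mk' (Cfsg.pCore p M)) ∧
      ⁅(Cfsg.pResidual p ↥(A ⊔ A.map (MulAut.conj x).toMonoidHom)).map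
          (A ⊔ A.map (MulAut.conj x).toMonoidHom).subtype, A⁆ =
        (Cfsg.pResidual p ↥(A ⊔ A.map (MulAut.conj x).toMonoidHom)).map
          (A ⊔ A.map (MulAut.conj x).toMonoidHom).subtype ∧
      (A ⊓ (Cfsg.pCore p ↥(A ⊔ A.map (MulAut.conj x).toMonoidHom)).map
          (A ⊔ A.map (MulAut.conj x).toMonoidHom).subtype).relIndex A = p ∧
      ⁅A ⊓ (Cfsg.pCore p ↥(A ⊔ A.map (MulAut.conj x).toMonoidHom)).map
          (A ⊔ A.map (MulAut.conj x).toMonoidHom).subtype,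
        A ⊔ A.map (MulAut.conj x).toMonoidHom⁆ ≤ Cfsg.pCore p M := by
  have hpp : p.Prime := Fact.out
  have hNp : IsPGroup p (Cfsg.pCore p M) := Cfsg.Agent.Lib.Helper63.pCore_isPGroup' p M
  have hQbc : (Nat.card (Cfsg.pPrimeCore p (M ⧸ Cfsg.pCore p M))).Coprime p :=
    Cfsg.Agent.Lib.Helper63.card_pPrimeCore_coprime' p _
  have hMb : Cfsg.IsPSolvable p (M ⧸ Cfsg.pCore p M) :=
    Cfsg.Agent.Lib.Helper69.isPSolvable_of_surj p (QuotientGroup.mk' (Cfsg.pCore p M))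
      (QuotientGroup.mk'_surjective _) hM
  have hOp : Cfsg.pCore p (M ⧸ Cfsg.pCore p M) = ⊥ := pCore_quot_eq_bot p
  set N := Cfsg.pCore p M with hN
  set π := QuotientGroup.mk' N with hπ
  set W := (Cfsg.pPrimeCore p (M ⧸ N)).comap π with hW
  have hWn : W.Normal := by rw [hW]; infer_instance
  have hAc : ∀ a ∈ A, ∀ b ∈ A, π a * π b = π b * π a := by
    intro a ha b hb
    have h1 : (⟨a, ha⟩ : A) * ⟨b, hb⟩ * (⟨a, ha⟩ : A)⁻¹ * (⟨b, hb⟩ : A)⁻¹ ∈ frattini ↥A :=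
      Cfsg.Agent.Lib.Helper87.comm_mem_frattini hA _ _
    have h2 : a * b * a⁻¹ * b⁻¹ ∈ N := hΦ ⟨_, h1, rfl⟩
    have h3 : π (a * b * a⁻¹ * b⁻¹) = 1 := (QuotientGroup.eq_one_iff _).mpr h2
    rw [map_mul, map_mul, map_mul, map_inv, map_inv] at h3
    calc π a * π b = (π a * π b * (π a)⁻¹ * (π b)⁻¹) * (π b * π a) := by group
      _ = π b * π a := by rw [h3, one_mul]
  have hAe : ∀ a ∈ A, (π a) ^ p = 1 := by
    intro a ha
    have h1 : (⟨a, ha⟩ : A) ^ p ∈ frattini ↥A :=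
      Cfsg.Agent.Lib.Helper87.pow_p_mem_frattini hA _
    have h2 : a ^ p ∈ N := hΦ ⟨_, h1, rfl⟩
    rw [← map_pow]
    exact (QuotientGroup.eq_one_iff _).mpr h2
  have hWm : ∀ w ∈ W, ∃ m : ℕ, m.Coprime p ∧ (π w) ^ m = 1 := fun w hw =>
    Cfsg.Agent.Lib.Helper63.exists_coprime_pow_eq_one _ hQbc hw
  have hWc : ¬ p ∣ Nat.card (W.map π) := by
    rw [hW, Subgroup.map_comap_eq_self_of_surjective (QuotientGroup.mk'_surjective N)]
    exact (Nat.Prime.coprime_iff_not_dvd hpp).mp hQbc.symm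
  -- the set of candidates
  have hXne : ({x | x ∈ W ∧ ∃ a ∈ A, π x * π a ≠ π a * π x} : Set M).Nonempty := by
    obtain ⟨a, ha, haN⟩ := SetLike.not_le_iff_exists.mp hnot
    have ha1 : π a ≠ 1 := fun h => haN ((QuotientGroup.eq_one_iff a).mp h)
    have hak : (π a) ^ p ^ 1 = 1 := by rw [pow_one]; exact hAe a ha
    have hnc : π a ∉ Subgroup.centralizer ((Cfsg.pPrimeCore p (M ⧸ N) : Subgroup (M ⧸ N)) :
        Set (M ⧸ N)) := fun hc =>
      ha1 (Cfsg.Agent.Lib.Helper11.eq_one_of_mem_centralizer_pPrimeCore hMb hOp (π a) hak hc)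
    rw [Subgroup.mem_centralizer_iff] at hnc
    push Not at hnc
    obtain ⟨q, hq, hqa⟩ := hnc
    obtain ⟨x, rfl⟩ := QuotientGroup.mk'_surjective N q
    exact ⟨x, hq, a, ha, hqa⟩
  obtain ⟨x₀, hx₀X, hmin₀⟩ := Set.exists_min_image
    ({x | x ∈ W ∧ ∃ a ∈ A, π x * π a ≠ π a * π x} : Set M)
    (fun x => Nat.card ↥(A ⊔ A.map (MulAut.conj x).toMonoidHom)) (Set.toFinite _) hXne
  obtain ⟨hx₀W, a₀, ha₀, hx₀a₀⟩ := hx₀X
  -- replace `x₀` by a `p'`-element `y` of `L`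
  obtain ⟨c, hc⟩ : ∃ c : M, c = x₀ * a₀ * x₀⁻¹ * a₀⁻¹ := ⟨_, rfl⟩
  have hcW : c ∈ W := by
    have h1 : c = x₀ * (a₀ * x₀⁻¹ * a₀⁻¹) := by rw [hc]; group
    rw [h1]
    exact W.mul_mem hx₀W (hWn.conj_mem x₀⁻¹ (W.inv_mem hx₀W) a₀)
  have hcL : c ∈ A ⊔ A.map (MulAut.conj x₀).toMonoidHom := by
    have h1 : x₀ * a₀ * x₀⁻¹ ∈ A ⊔ A.map (MulAut.conj x₀).toMonoidHom :=
      Subgroup.mem_sup_right ⟨a₀, ha₀, rfl⟩
    rw [hc]
    exact Subgroup.mul_mem _ h1 (Subgroup.inv_mem _ (Subgroup.mem_sup_left ha₀))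
  obtain ⟨m, hm, hcm⟩ := hWm c hcW
  have hπc : π c = π x₀ * π a₀ * (π x₀)⁻¹ * (π a₀)⁻¹ := by
    rw [hc]; simp only [map_mul, map_inv]
  have hne1 : π c * π a₀ ≠ π a₀ * π c := by
    rw [hπc]
    apply comm_ne_of_ne (π x₀) (π a₀) m hm (hAe a₀ ha₀) _ hx₀a₀
    rw [← hπc]
    exact hcm
  have hcmN : c ^ m ∈ N := by
    rw [← QuotientGroup.eq_one_iff]
    rw [← map_pow] at hcm
    exact hcm
  obtain ⟨j, hj⟩ := hNp ⟨c ^ m, hcmN⟩
  have hcj : (c ^ m) ^ p ^ j = 1 := by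
    have := congrArg Subtype.val hj
    simpa using this
  obtain ⟨y, hy⟩ : ∃ y : M, y = c ^ p ^ j := ⟨_, rfl⟩
  have hyo : (orderOf y).Coprime p := by
    have h1 : y ^ m = 1 := by
      rw [hy, ← pow_mul, mul_comm, pow_mul]
      exact hcj
    exact Nat.Coprime.coprime_dvd_left (orderOf_dvd_of_pow_eq_one h1) hm
  have hyne : π y * π a₀ ≠ π a₀ * π y := by
    rw [hy, map_pow]
    exact exists_pprime_pow (π c) (π a₀) m j hm hcm hne1
  have hyW : y ∈ W := by rw [hy]; exact W.pow_mem hcW _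
  have hyL₀ : y ∈ A ⊔ A.map (MulAut.conj x₀).toMonoidHom := by
    rw [hy]; exact Subgroup.pow_mem _ hcL _
  have hLy : A ⊔ A.map (MulAut.conj y).toMonoidHom ≤ A ⊔ A.map (MulAut.conj x₀).toMonoidHom := by
    apply sup_le le_sup_left
    rintro _ ⟨a', ha', rfl⟩
    exact Subgroup.mul_mem _ (Subgroup.mul_mem _ hyL₀ (Subgroup.mem_sup_left ha'))
      (Subgroup.inv_mem _ hyL₀)
  have hLeq : A ⊔ A.map (MulAut.conj y).toMonoidHom = A ⊔ A.map (MulAut.conj x₀).toMonoidHom :=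
    Subgroup.eq_of_le_of_card_ge hLy (hmin₀ y ⟨hyW, a₀, ha₀, hyne⟩)
  have hyK : y ∈ (Cfsg.pResidual p ↥(A ⊔ A.map (MulAut.conj y).toMonoidHom)).map
      (A ⊔ A.map (MulAut.conj y).toMonoidHom).subtype := by
    apply mem_opOf _ _ hyo
    rw [hLeq]
    exact hyL₀
  have hminy : ∀ z ∈ W, (∃ a ∈ A, π z * π a ≠ π a * π z) →
      A ⊔ A.map (MulAut.conj z).toMonoidHom ≤ A ⊔ A.map (MulAut.conj y).toMonoidHom →
      A ⊔ A.map (MulAut.conj z).toMonoidHom = A ⊔ A.map (MulAut.conj y).toMonoidHom := by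
    intro z hzW hz hle
    apply Subgroup.eq_of_le_of_card_ge hle
    rw [hLeq]
    exact hmin₀ z ⟨hzW, hz⟩
  obtain ⟨h_ii, h_iv, h_v⟩ := core N hNp W hWm hWc A hA hAc hAe y
    (A ⊔ A.map (MulAut.conj y).toMonoidHom) rfl hyW a₀ ha₀ hyne hyK hminy
  exact ⟨y, hyW, hyK, h_ii, comm_opOf_eq A hA y _ rfl hyK, h_iv, h_v⟩

end Cfsg.Agent.Lib.Helper46.BPS
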