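import Mathlib

set_option autoImplicit false

namespace Cfsg.Agent.Lib.Helper46

section DihedralLift

variable {Q : Type*} [Group Q] {n : ℕ} [NeZero n]

theorem pow_intCast_val (a : Q) (ha : a ^ n = 1) (k : ℤ) : a ^ ((k : ZMod n).val) = a ^ k := by
  have h1 : (((k : ZMod n).val : ℕ) : ℤ) = k % n := ZMod.val_intCast k
  rw [← zpow_natCast, h1]
  conv_rhs => rw [← Int.emod_add_mul_ediv k n]
  rw [zpow_add, zpow_mul, zpow_natCast, ha, one_zpow, mul_one]

/-- The map `r i ↦ a ^ i`, `sr i ↦ b * a ^ i`. -/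
def dihedralLiftFun (a b : Q) : DihedralGroup n → Q
  | DihedralGroup.r i => a ^ i.val
  | DihedralGroup.sr i => b * a ^ i.val

theorem zpow_mul_comm_inv (a b : Q) (hb : b * b = 1) (hab : b * a * b⁻¹ = a⁻¹) (k : ℤ) :
    a ^ k * b = b * a ^ (-k) := by
  have hbinv : b⁻¹ = b := inv_eq_of_mul_eq_one_left hb
  have h1 : b * a ^ k * b⁻¹ = (a ^ k)⁻¹ := by
    rw [← conj_zpow, hab, inv_zpow]
  rw [zpow_neg, ← h1, hbinv]
  calc a ^ k * b = (b * b) * a ^ k * b := by rw [hb, one_mul]
    _ = b * (b * a ^ k * b) := by group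

/-- The homomorphism from the dihedral group determined by `a` (a rotation) and `b`
(a reflection). -/
def dihedralLift (a b : Q) (ha : a ^ n = 1) (hb : b * b = 1) (hab : b * a * b⁻¹ = a⁻¹) :
    DihedralGroup n →* Q where
  toFun := dihedralLiftFun a b
  map_one' := by
    change dihedralLiftFun a b (DihedralGroup.r 0) = 1
    simp [dihedralLiftFun]
  map_mul' := by
    have L1 := zpow_mul_comm_inv a b hb hab
    rintro (i | i) (j | j)
    · obtain ⟨k, rfl⟩ := ZMod.intCast_surjective i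
      obtain ⟨l, rfl⟩ := ZMod.intCast_surjective j
      rw [DihedralGroup.r_mul_r, ← Int.cast_add]
      simp only [dihedralLiftFun]
      rw [pow_intCast_val a ha, pow_intCast_val a ha, pow_intCast_val a ha, zpow_add]
    · obtain ⟨k, rfl⟩ := ZMod.intCast_surjective i
      obtain ⟨l, rfl⟩ := ZMod.intCast_surjective j
      rw [DihedralGroup.r_mul_sr, ← Int.cast_sub]
      simp only [dihedralLiftFun]
      rw [pow_intCast_val a ha, pow_intCast_val a ha, pow_intCast_val a ha, ← mul_assoc, L1,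
        mul_assoc, ← zpow_add]
      congr 2
      ring
    · obtain ⟨k, rfl⟩ := ZMod.intCast_surjective i
      obtain ⟨l, rfl⟩ := ZMod.intCast_surjective j
      rw [DihedralGroup.sr_mul_r, ← Int.cast_add]
      simp only [dihedralLiftFun]
      rw [pow_intCast_val a ha, pow_intCast_val a ha, pow_intCast_val a ha, zpow_add, mul_assoc]
    · obtain ⟨k, rfl⟩ := ZMod.intCast_surjective i
      obtain ⟨l, rfl⟩ := ZMod.intCast_surjective j
      rw [DihedralGroup.sr_mul_sr, ← Int.cast_sub]
      simp only [dihedralLiftFun]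
      rw [pow_intCast_val a ha, pow_intCast_val a ha, pow_intCast_val a ha]
      calc a ^ (l - k) = (b * b) * (a ^ (-k) * a ^ l) := by
            rw [hb, one_mul, ← zpow_add]; congr 1; ring
        _ = b * (b * a ^ (-k)) * a ^ l := by group
        _ = b * (a ^ k * b) * a ^ l := by rw [L1]
        _ = b * a ^ k * (b * a ^ l) := by group

theorem dihedralLift_r (a b : Q) (ha : a ^ n = 1) (hb : b * b = 1) (hab : b * a * b⁻¹ = a⁻¹)
    (i : ZMod n) : dihedralLift a b ha hb hab (DihedralGroup.r i) = a ^ i.val := rfl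

theorem dihedralLift_sr (a b : Q) (ha : a ^ n = 1) (hb : b * b = 1) (hab : b * a * b⁻¹ = a⁻¹)
    (i : ZMod n) : dihedralLift a b ha hb hab (DihedralGroup.sr i) = b * a ^ i.val := rfl

theorem dihedralLift_injective (a b : Q) (ha : a ^ n = 1) (hb : b * b = 1)
    (hab : b * a * b⁻¹ = a⁻¹) (ho : orderOf a = n) (hb' : b ∉ Subgroup.zpowers a) :
    Function.Injective (dihedralLift a b ha hb hab) := by
  rw [← MonoidHom.ker_eq_bot_iff, eq_bot_iff]
  rintro (i | i) hx
  · rw [MonoidHom.mem_ker, dihedralLift_r] at hx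
    have h0 : orderOf a ∣ i.val := orderOf_dvd_of_pow_eq_one hx
    have h1 : n ∣ i.val := by
      obtain ⟨c, hc⟩ := h0
      exact ⟨c, by rw [hc, ho]⟩
    have h2 : i.val < n := ZMod.val_lt i
    have h3 : i.val = 0 := Nat.eq_zero_of_dvd_of_lt h1 h2
    rw [Subgroup.mem_bot, DihedralGroup.one_def]
    congr 1
    exact (ZMod.val_eq_zero i).1 h3
  · rw [MonoidHom.mem_ker, dihedralLift_sr] at hx
    exfalso
    apply hb'
    have h1 : b = (a ^ i.val)⁻¹ := eq_inv_of_mul_eq_one_left hx
    rw [h1]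
    exact Subgroup.inv_mem _ (Subgroup.pow_mem _ (Subgroup.mem_zpowers a) _)

theorem dihedralLift_surjective (a b : Q) (ha : a ^ n = 1) (hb : b * b = 1)
    (hab : b * a * b⁻¹ = a⁻¹) (hgen : Subgroup.closure ({a, b} : Set Q) = ⊤) :
    Function.Surjective (dihedralLift a b ha hb hab) := by
  rw [← MonoidHom.range_eq_top, eq_top_iff, ← hgen, Subgroup.closure_le]
  rintro x (rfl | hx)
  · refine ⟨DihedralGroup.r ((1 : ℤ) : ZMod n), ?_⟩
    rw [dihedralLift_r, pow_intCast_val x ha, zpow_one]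
  · rw [Set.mem_singleton_iff] at hx
    subst hx
    refine ⟨DihedralGroup.sr 0, ?_⟩
    rw [dihedralLift_sr]
    simp

end DihedralLift

end Cfsg.Agent.Lib.Helper46
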