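import Mathlib
import Cfsg.Prelude.Def_CaseTheorems
import Cfsg.Prelude.Def_FusionSystem
import Cfsg.Agent.Lib.Helper46.ZStarGen
import Cfsg.Agent.Lib.Helper50.SylowAux

/-!
The centre of the 2-fusion system of a finite group (helper46): `Z(F_S(G)) = S ∩ Z*(G)`,
conditional on the Z*-theorem hypothesis `ZStarHyp`.
-/

set_option autoImplicit false
set_option linter.unusedVariables false
set_option linter.style.haveILetI false

namespace Cfsg.Agent.Lib.Helper46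

universe u

/-- If the image of `z` is central modulo `N`, all commutators `h z h⁻¹ z⁻¹` lie in `N`. -/
theorem comm_mem_of_mk_mem_center {G : Type u} [Group G] (N : Subgroup G) [hN : N.Normal] {z : G}
    (hz : QuotientGroup.mk' N z ∈ Subgroup.center (G ⧸ N)) (h : G) : h * z * h⁻¹ * z⁻¹ ∈ N := by
  have h1 := (Subgroup.mem_center_iff.mp hz) (QuotientGroup.mk' N h⁻¹)
  rw [← map_mul, ← map_mul] at h1
  have h2 : (h⁻¹ * z)⁻¹ * (z * h⁻¹) ∈ N := QuotientGroup.eq.mp h1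
  have h3 := hN.conj_mem _ h2 z
  have h4 : z * ((h⁻¹ * z)⁻¹ * (z * h⁻¹)) * z⁻¹ = h * z * h⁻¹ * z⁻¹ := by group
  rwa [h4] at h3

/-- If all commutators `x g x⁻¹ g⁻¹` lie in `N`, the image of `x` is central modulo `N`. -/
theorem mk_mem_center_of_comm_mem {G : Type u} [Group G] (N : Subgroup G) [hN : N.Normal] {x : G}
    (hx : ∀ g : G, x * g * x⁻¹ * g⁻¹ ∈ N) :
    QuotientGroup.mk' N x ∈ Subgroup.center (G ⧸ N) := by
  rw [Subgroup.mem_center_iff]
  intro q
  obtain ⟨g, rfl⟩ := QuotientGroup.mk'_surjective N q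
  rw [← map_mul, ← map_mul]
  apply QuotientGroup.eq.mpr
  have h1 := hN.conj_mem _ (hx g⁻¹) x⁻¹
  have h2 : (g * x)⁻¹ * (x * g) = (x⁻¹ * (x * g⁻¹ * x⁻¹ * g⁻¹⁻¹) * x⁻¹⁻¹)⁻¹ := by group
  rw [h2]
  exact N.inv_mem h1

/-- **The centre of the 2-fusion system of a finite group** is `S ∩ Z*(G)` (given the
Z*-theorem). -/
theorem fus_center_eq (hZ : ZStarHyp.{u}) {G : Type u} [Group G] [Finite G] (S : Sylow 2 G) :
    (Cfsg.groupFusionSystem (S : Subgroup G)).center =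
      (S : Subgroup G) ⊓ (Subgroup.center (G ⧸ Cfsg.oddCore G)).comap
        (QuotientGroup.mk' (Cfsg.oddCore G)) := by
  have : Fact (Nat.Prime 2) := ⟨Nat.prime_two⟩
  have hOn : (Cfsg.oddCore G).Normal := inferInstance
  have hOodd : (Nat.card (Cfsg.oddCore G)).Coprime 2 :=
    Cfsg.Agent.Lib.Helper22.card_pPrimeCore_coprime 2 G
  have hOS : ∀ y, y ∈ Cfsg.oddCore G → y ∈ S → y = 1 := by
    intro y hyO hyS
    obtain ⟨n, hn⟩ := IsPGroup.iff_card.mp S.isPGroup'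
    have hcop : (Nat.card (Cfsg.oddCore G)).Coprime (Nat.card (S : Subgroup G)) := by
      rw [hn]; exact hOodd.pow_right n
    exact Subgroup.disjoint_def.mp (Subgroup.disjoint_of_coprime_natCard hcop) hyO hyS
  apply le_antisymm
  · -- every central subgroup lies in `S ∩ Z*(G)`
    apply sSup_le
    intro Q hQ
    obtain ⟨hQS, hQc⟩ := hQ
    intro x hxQ
    refine ⟨hQS hxQ, ?_⟩
    show QuotientGroup.mk' (Cfsg.oddCore G) x ∈ Subgroup.center (G ⧸ Cfsg.oddCore G)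
    apply mk_mem_center_of_comm_mem
    apply isolated_two_element hZ S x (hQS hxQ)
    intro g hg
    have hPS : Subgroup.zpowers x ≤ (S : Subgroup G) := Subgroup.zpowers_le.mpr (hQS hxQ)
    have hφ : Cfsg.conjHom (Subgroup.zpowers x) g ∈
        (Cfsg.groupFusionSystem (S : Subgroup G)).Hom (Subgroup.zpowers x) := by
      show Subgroup.zpowers x ≤ (S : Subgroup G) ∧
        (∀ y : Subgroup.zpowers x, Cfsg.conjHom (Subgroup.zpowers x) g y ∈ (S : Subgroup G)) ∧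
        ∃ g' : G, ∀ y : Subgroup.zpowers x,
          Cfsg.conjHom (Subgroup.zpowers x) g y = g' * (y : G) * g'⁻¹
      refine ⟨hPS, fun y => ?_, g, fun y => rfl⟩
      obtain ⟨y, hy⟩ := y
      obtain ⟨k, rfl⟩ := Subgroup.mem_zpowers_iff.mp hy
      show g * x ^ k * g⁻¹ ∈ (S : Subgroup G)
      have h1 : g * x ^ k * g⁻¹ = (g * x * g⁻¹) ^ k := by
        rw [conj_zpow]
      rw [h1]
      exact Subgroup.zpow_mem _ hg k
    obtain ⟨ψ, hψ, hψP, hψQ⟩ := hQc _ _ hφ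
    have h1 := hψP ⟨x, Subgroup.mem_zpowers x⟩
    have h2 := hψQ ⟨x, hxQ⟩
    have h3 : (Subgroup.inclusion le_sup_left ⟨x, Subgroup.mem_zpowers x⟩ :
        ↥(Subgroup.zpowers x ⊔ Q)) = Subgroup.inclusion le_sup_right ⟨x, hxQ⟩ := rfl
    rw [h3, h2] at h1
    exact h1.symm
  · -- `S ∩ Z*(G)` is central in the fusion system
    apply le_sSup
    set Z₀ : Subgroup G := (S : Subgroup G) ⊓ (Subgroup.center (G ⧸ Cfsg.oddCore G)).comap
        (QuotientGroup.mk' (Cfsg.oddCore G)) with hZ₀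
    have hZ₀S : Z₀ ≤ (S : Subgroup G) := inf_le_left
    have hZ₀c : ∀ z ∈ Z₀, ∀ h : G, h * z * h⁻¹ * z⁻¹ ∈ Cfsg.oddCore G :=
      fun z hz h => comm_mem_of_mk_mem_center (Cfsg.oddCore G) hz.2 h
    have hfix : ∀ z ∈ Z₀, ∀ h : G, h * z * h⁻¹ ∈ S → h * z * h⁻¹ = z := by
      intro z hz h hh
      have h1 := hOS _ (hZ₀c z hz h)
        ((S : Subgroup G).mul_mem hh ((S : Subgroup G).inv_mem (hZ₀S hz)))
      exact mul_inv_eq_one.mp h1
    have hZ₀cent : ∀ z ∈ Z₀, ∀ s ∈ S, s * z = z * s := by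
      intro z hz s hs
      have h1 := hfix z hz s ((S : Subgroup G).mul_mem ((S : Subgroup G).mul_mem hs (hZ₀S hz))
        ((S : Subgroup G).inv_mem hs))
      calc s * z = s * z * s⁻¹ * s := by group
        _ = z * s := by rw [h1]
    refine ⟨hZ₀S, ?_⟩
    intro P φ hφ
    have hφ' : P ≤ (S : Subgroup G) ∧ (∀ x : P, φ x ∈ (S : Subgroup G)) ∧
        ∃ g : G, ∀ x : P, φ x = g * (x : G) * g⁻¹ := hφ
    obtain ⟨hPS, hφS, g, hg⟩ := hφ'
    set Q' : Subgroup G := P.map (MulAut.conj g).toMonoidHom with hQ'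
    have hQ'S : Q' ≤ (S : Subgroup G) := by
      rintro _ ⟨x, hx, rfl⟩
      have h := hφS ⟨x, hx⟩
      rw [hg] at h
      exact h
    set K : Subgroup G := (Cfsg.oddCore G ⊔ Z₀) ⊓ Subgroup.centralizer (Q' : Set G) with hK
    set B : Subgroup G := Z₀.map (MulAut.conj g).toMonoidHom with hB
    have hZ₀K : Z₀ ≤ K := by
      refine le_inf le_sup_right ?_
      intro z hz
      rw [Subgroup.mem_centralizer_iff]
      intro q hq
      exact hZ₀cent z hz q (hQ'S hq)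
    have hBK : B ≤ K := by
      rintro _ ⟨z, hz, rfl⟩
      refine ⟨?_, ?_⟩
      · have h1 : (MulAut.conj g).toMonoidHom z = (g * z * g⁻¹ * z⁻¹) * z := by
          simp
        rw [h1]
        exact Subgroup.mul_mem _ (Subgroup.mem_sup_left (hZ₀c z hz g)) (Subgroup.mem_sup_right hz)
      · show (MulAut.conj g).toMonoidHom z ∈ Subgroup.centralizer (Q' : Set G)
        rw [Subgroup.mem_centralizer_iff]
        rintro _ ⟨x, hx, rfl⟩
        have h1 := hZ₀cent z hz x (hPS hx)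
        simp only [MulEquiv.coe_toMonoidHom, MulAut.conj_apply]
        calc g * x * g⁻¹ * (g * z * g⁻¹) = g * (x * z) * g⁻¹ := by group
          _ = g * (z * x) * g⁻¹ := by rw [h1]
          _ = g * z * g⁻¹ * (g * x * g⁻¹) := by group
    have hidx : ¬ 2 ∣ Z₀.relIndex K := by
      intro h2
      have h1 : Z₀.relIndex K * K.relIndex (Z₀ ⊔ Cfsg.oddCore G)
          = Z₀.relIndex (Z₀ ⊔ Cfsg.oddCore G) :=
        Subgroup.relIndex_mul_relIndex _ _ _ hZ₀K (by rw [sup_comm]; exact inf_le_left)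
      have h3 : Z₀.relIndex (Z₀ ⊔ Cfsg.oddCore G) = Z₀.relIndex (Cfsg.oddCore G) :=
        Cfsg.Agent.Lib.Helper50.relIndex_eq_of_le_sup Z₀ (Cfsg.oddCore G)
          (Z₀ ⊔ Cfsg.oddCore G) le_sup_right le_rfl
      have h4 : Z₀.relIndex (Cfsg.oddCore G) ∣ Nat.card (Cfsg.oddCore G) :=
        Subgroup.relIndex_dvd_card _ _
      have h5 : 2 ∣ Nat.card (Cfsg.oddCore G) := by
        rw [h3] at h1
        exact (Dvd.intro _ h1 |> fun h => h2.trans h).trans h4
      have h6 := Nat.Coprime.eq_one_of_dvd hOodd.symm h5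
      omega
    have hZ₀p : IsPGroup 2 Z₀ := S.isPGroup'.to_le hZ₀S
    have hBp : IsPGroup 2 B := hZ₀p.map _
    obtain ⟨k, hkK, hk⟩ := Cfsg.Agent.Lib.Helper50.exists_conj_le_of_not_dvd_relIndex
      Z₀ B K hBK hZ₀p hBp hidx
    set m : G := k⁻¹ * g with hm
    have hmZ : ∀ z ∈ Z₀, m * z * m⁻¹ = z := by
      intro z hz
      have h1 : (MulAut.conj g).toMonoidHom z ∈ B := Subgroup.mem_map_of_mem _ hz
      obtain ⟨z', hz', hz'e⟩ := hk h1
      have h2 : m * z * m⁻¹ = z' := by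
        simp only [MulEquiv.coe_toMonoidHom, MulAut.conj_apply] at hz'e
        calc m * z * m⁻¹ = k⁻¹ * (g * z * g⁻¹) * k := by rw [hm]; group
          _ = k⁻¹ * (k * z' * k⁻¹) * k := by rw [hz'e]
          _ = z' := by group
      apply hfix z hz
      rw [h2]; exact hZ₀S hz'
    have hmP : ∀ x ∈ P, m * x * m⁻¹ = g * x * g⁻¹ := by
      intro x hx
      have hkc : k ∈ Subgroup.centralizer (Q' : Set G) := hkK.2
      have h1 : g * x * g⁻¹ ∈ Q' := ⟨x, hx, rfl⟩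
      have h2 := (Subgroup.mem_centralizer_iff.mp hkc) _ h1
      calc m * x * m⁻¹ = k⁻¹ * ((g * x * g⁻¹) * k) := by rw [hm]; group
        _ = k⁻¹ * (k * (g * x * g⁻¹)) := by rw [h2]
        _ = g * x * g⁻¹ := by group
    have hsupS : P ⊔ Z₀ ≤ (S : Subgroup G) := sup_le hPS hZ₀S
    have hmS : ∀ y ∈ P ⊔ Z₀, m * y * m⁻¹ ∈ (S : Subgroup G) := by
      have h : P ⊔ Z₀ ≤ (S : Subgroup G).comap (MulAut.conj m).toMonoidHom := by
        apply sup_le
        · intro x hx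
          show m * x * m⁻¹ ∈ (S : Subgroup G)
          rw [hmP x hx, ← hg ⟨x, hx⟩]; exact hφS ⟨x, hx⟩
        · intro z hz
          show m * z * m⁻¹ ∈ (S : Subgroup G)
          rw [hmZ z hz]; exact hZ₀S hz
      intro y hy; exact h hy
    refine ⟨Cfsg.conjHom (P ⊔ Z₀) m, ?_, ?_, ?_⟩
    · show P ⊔ Z₀ ≤ (S : Subgroup G) ∧
        (∀ y : ↥(P ⊔ Z₀), Cfsg.conjHom (P ⊔ Z₀) m y ∈ (S : Subgroup G)) ∧
        ∃ g' : G, ∀ y : ↥(P ⊔ Z₀), Cfsg.conjHom (P ⊔ Z₀) m y = g' * (y : G) * g'⁻¹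
      exact ⟨hsupS, fun y => hmS y y.2, m, fun y => rfl⟩
    · intro x
      show m * (x : G) * m⁻¹ = φ x
      rw [hmP _ x.2, hg x]
    · intro z
      show m * (z : G) * m⁻¹ = z
      exact hmZ _ z.2

end Cfsg.Agent.Lib.Helper46
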