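import Mathlib
import Cfsg.Prelude.Def_CaseTheorems
import Cfsg.Prelude.Def_TwoFusion
import Cfsg.Agent.Lib.Helper46.ZStarGen

/-!
A strongly closed 2-subgroup centralizes every invariant subgroup `H` with `O(H) = 1` that it
meets trivially (helper46), conditional on the Z*-theorem hypothesis `ZStarHyp`.
-/

set_option autoImplicit false
set_option linter.unusedVariables false
set_option linter.style.haveILetI false

namespace Cfsg.Agent.Lib.Helper46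

universe u

/-- If `A` is strongly closed in `S` and `k A k⁻¹ ≤ S` then `k⁻¹ A k ≤ A`. -/
theorem conj_inv_mem_of_stronglyClosed {G : Type u} [Group G] [Finite G] {A S : Subgroup G}
    (hA : Cfsg.IsStronglyClosed A S) (k : G) (hk : ∀ x ∈ A, k * x * k⁻¹ ∈ S) :
    ∀ x ∈ A, k⁻¹ * x * k ∈ A := by
  intro x hx
  let f : A → A := fun z => ⟨k * z * k⁻¹, hA.2 z z.2 k (hk z z.2)⟩
  have hinj : Function.Injective f := by
    intro z₁ z₂ h
    have h' : k * (z₁ : G) * k⁻¹ = k * (z₂ : G) * k⁻¹ := congrArg Subtype.val h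
    exact Subtype.ext (mul_left_cancel (mul_right_cancel h'))
  have hsurj : Function.Surjective f := Finite.injective_iff_surjective.mp hinj
  obtain ⟨z, hz⟩ := hsurj ⟨x, hx⟩
  have hz' : k * (z : G) * k⁻¹ = x := congrArg Subtype.val hz
  have h1 : k⁻¹ * x * k = z := by rw [← hz']; group
  rw [h1]; exact z.2

/-- Key step: for `a ∈ A` (strongly closed in a Sylow 2-subgroup, normalizing `H`, `A ∩ H = 1`)
a conjugate `h a h⁻¹`, `h ∈ H`, commuting with `a` equals `a`. -/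
theorem conj_eq_of_commute_of_stronglyClosed {G : Type u} [Group G] [Finite G] (S : Sylow 2 G)
    {A H : Subgroup G} (hA : Cfsg.IsStronglyClosed A (S : Subgroup G))
    (hAH : A ≤ Subgroup.normalizer (H : Set G)) (hdisj : A ⊓ H = ⊥)
    {a : G} (ha : a ∈ A) {h : G} (hh : h ∈ H) (hc : Commute a (h * a * h⁻¹)) :
    h * a * h⁻¹ = a := by
  have : Fact (Nat.Prime 2) := ⟨Nat.prime_two⟩
  set y := h * a * h⁻¹ with hy
  set Y : Subgroup G := H ⊔ A with hY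
  have hYN : Y ≤ Subgroup.normalizer (H : Set G) := sup_le Subgroup.le_normalizer hAH
  have haS : a ∈ (S : Subgroup G) := hA.1 ha
  have haY : a ∈ Y := Subgroup.mem_sup_right ha
  have hhY : h ∈ Y := Subgroup.mem_sup_left hh
  have hyY : y ∈ Y := Y.mul_mem (Y.mul_mem hhY haY) (Y.inv_mem hhY)
  have hpa : IsPGroup 2 (Subgroup.zpowers a) := S.isPGroup'.to_le (Subgroup.zpowers_le.mpr haS)
  have hpy : IsPGroup 2 (Subgroup.zpowers y) := by
    have h1 : Subgroup.zpowers y ≤ ((h • S : Sylow 2 G) : Subgroup G) := by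
      rw [Subgroup.zpowers_le, mem_smul_sylow]
      have h' : h⁻¹ * y * h = a := by rw [hy]; group
      rw [h']; exact haS
    exact (h • S).isPGroup'.to_le h1
  have hnorm : Subgroup.zpowers a ≤ Subgroup.normalizer (Subgroup.zpowers y : Set G) := by
    refine le_trans ?_ (Subgroup.centralizer_le_normalizer _)
    rw [Subgroup.zpowers_le, Subgroup.mem_centralizer_iff]
    intro k hk
    obtain ⟨i, rfl⟩ := Subgroup.mem_zpowers_iff.mp hk
    exact ((hc.zpow_right i).eq).symm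
  set D : Subgroup G := Subgroup.zpowers a ⊔ Subgroup.zpowers y with hD
  have hpD : IsPGroup 2 D := IsPGroup.to_sup_of_normal_right' hpa hpy hnorm
  have hDY : D ≤ Y := sup_le (Subgroup.zpowers_le.mpr haY) (Subgroup.zpowers_le.mpr hyY)
  have haD : a ∈ D := Subgroup.mem_sup_left (Subgroup.mem_zpowers a)
  have hyD : y ∈ D := Subgroup.mem_sup_right (Subgroup.mem_zpowers y)
  have hAY : A ≤ Y := le_sup_right
  obtain ⟨Q⟩ : Nonempty (Sylow 2 Y) := inferInstance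
  have hpD' : IsPGroup 2 (D.subgroupOf Y) := hpD.comap_subtype
  have hpA' : IsPGroup 2 (A.subgroupOf Y) := (S.isPGroup'.to_le hA.1).comap_subtype
  obtain ⟨n₁, hn₁⟩ := Cfsg.Agent.Lib.Helper53.exists_conj_le_sylow Q hpD'
  obtain ⟨n₂, hn₂⟩ := Cfsg.Agent.Lib.Helper53.exists_conj_le_sylow Q hpA'
  have hpR : IsPGroup 2 ((Q : Subgroup Y).map Y.subtype) := Q.isPGroup'.map _
  obtain ⟨v, hv⟩ := Cfsg.Agent.Lib.Helper53.exists_conj_le_sylow S hpR
  have hk₁ : ∀ d ∈ D, (v * n₁) * d * (v * n₁)⁻¹ ∈ (S : Subgroup G) := by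
    intro d hd
    have h1 := hn₁ ⟨d, hDY hd⟩ (Subgroup.mem_subgroupOf.mpr hd)
    have h2 := hv _ (Subgroup.mem_map_of_mem Y.subtype h1)
    have h3 : (v * (n₁ : G)) * d * (v * (n₁ : G))⁻¹
        = v * (Y.subtype (n₁ * ⟨d, hDY hd⟩ * n₁⁻¹)) * v⁻¹ := by
      simp [mul_assoc]
    rw [h3]; exact h2
  have hk₂ : ∀ x ∈ A, (v * n₂) * x * (v * n₂)⁻¹ ∈ (S : Subgroup G) := by
    intro d hd
    have h1 := hn₂ ⟨d, hAY hd⟩ (Subgroup.mem_subgroupOf.mpr hd)
    have h2 := hv _ (Subgroup.mem_map_of_mem Y.subtype h1)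
    have h3 : (v * (n₂ : G)) * d * (v * (n₂ : G))⁻¹
        = v * (Y.subtype (n₂ * ⟨d, hAY hd⟩ * n₂⁻¹)) * v⁻¹ := by
      simp [mul_assoc]
    rw [h3]; exact h2
  have hinv := conj_inv_mem_of_stronglyClosed hA (v * n₂) hk₂
  have h1 : (v * n₁) * a * (v * n₁)⁻¹ ∈ A := hA.2 a ha _ (hk₁ a haD)
  have h2 : (v * n₁) * y * (v * n₁)⁻¹ ∈ A := by
    have e : (v * n₁) * y * (v * n₁)⁻¹ = (v * n₁ * h) * a * (v * n₁ * h)⁻¹ := by
      rw [hy]; group
    rw [e]; apply hA.2 a ha; rw [← e]; exact hk₁ y hyD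
  have h3 := hinv _ h1
  have h4 := hinv _ h2
  set w : G := (n₂ : G)⁻¹ * n₁ with hw
  have hwY : w ∈ Y := Y.mul_mem (Y.inv_mem n₂.2) n₁.2
  have h3' : w * a * w⁻¹ ∈ A := by
    have e : w * a * w⁻¹ = (v * n₂)⁻¹ * ((v * n₁) * a * (v * n₁)⁻¹) * (v * n₂) := by
      rw [hw]; group
    rw [e]; exact h3
  have h4' : w * y * w⁻¹ ∈ A := by
    have e : w * y * w⁻¹ = (v * n₂)⁻¹ * ((v * n₁) * y * (v * n₁)⁻¹) * (v * n₂) := by
      rw [hw]; group
    rw [e]; exact h4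
  have h5 : w * (a⁻¹ * y) * w⁻¹ ∈ A := by
    have e : w * (a⁻¹ * y) * w⁻¹ = (w * a * w⁻¹)⁻¹ * (w * y * w⁻¹) := by group
    rw [e]; exact A.mul_mem (A.inv_mem h3') h4'
  have h6 : a⁻¹ * y ∈ H := by
    have e : a⁻¹ * y = (a⁻¹ * h * a⁻¹⁻¹) * h⁻¹ := by rw [hy]; group
    rw [e]
    exact H.mul_mem ((Subgroup.mem_normalizer_iff.mp (hAH (A.inv_mem ha)) h).mp hh)
      (H.inv_mem hh)
  have h7 : w * (a⁻¹ * y) * w⁻¹ ∈ H := (Subgroup.mem_normalizer_iff.mp (hYN hwY) _).mp h6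
  have h8 : w * (a⁻¹ * y) * w⁻¹ = 1 := by
    have h : w * (a⁻¹ * y) * w⁻¹ ∈ A ⊓ H := ⟨h5, h7⟩
    rw [hdisj] at h; exact Subgroup.mem_bot.mp h
  have h9 : a⁻¹ * y = 1 := by
    have h : a⁻¹ * y = w⁻¹ * (w * (a⁻¹ * y) * w⁻¹) * w := by group
    rw [h, h8]; group
  exact (inv_mul_eq_one.mp h9).symm

/-- **Strongly closed 2-subgroups centralize disjoint invariant subgroups without odd core**
(given the Z*-theorem). -/
theorem stronglyClosed_le_centralizer (hZ : ZStarHyp.{u}) {G : Type u} [Group G] [Finite G]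
    (S : Sylow 2 G) (A : Subgroup G) (hA : Cfsg.IsStronglyClosed A (S : Subgroup G))
    (H : Subgroup G) (hAH : A ≤ Subgroup.normalizer (H : Set G)) (hO : Cfsg.oddCore ↥H = ⊥)
    (hdisj : A ⊓ H = ⊥) : A ≤ Subgroup.centralizer (H : Set G) := by
  have : Fact (Nat.Prime 2) := ⟨Nat.prime_two⟩
  intro a ha
  rw [Subgroup.mem_centralizer_iff]
  intro h hh
  set X : Subgroup G := H ⊔ Subgroup.zpowers a with hX
  have hHX : H ≤ X := le_sup_left
  have haX : a ∈ X := Subgroup.mem_sup_right (Subgroup.mem_zpowers a)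
  have hza : Subgroup.zpowers a ≤ Subgroup.normalizer (H : Set G) :=
    Subgroup.zpowers_le.mpr (hAH ha)
  have hXmem : ∀ g ∈ X, ∃ h₁ ∈ H, ∃ z ∈ Subgroup.zpowers a, g = h₁ * z := by
    intro g hg
    have h1 : (g : G) ∈ ((H ⊔ Subgroup.zpowers a : Subgroup G) : Set G) := hg
    rw [Subgroup.coe_mul_of_right_le_normalizer_left H (Subgroup.zpowers a) hza] at h1
    obtain ⟨h₁, hh₁, z, hz, rfl⟩ := Set.mem_mul.mp h1
    exact ⟨h₁, hh₁, z, hz, rfl⟩
  have hiso : Cfsg.IsIsolated (⟨a, haX⟩ : X) := by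
    intro g hg
    obtain ⟨h₁, hh₁, z, hz, hgz⟩ := hXmem g g.2
    obtain ⟨i, rfl⟩ := Subgroup.mem_zpowers_iff.mp hz
    have e : (g : G) * a * (g : G)⁻¹ = h₁ * a * h₁⁻¹ := by
      rw [hgz]
      have e1 : a ^ i * a * (a ^ i)⁻¹ = a := by group
      calc h₁ * a ^ i * a * (h₁ * a ^ i)⁻¹ = h₁ * (a ^ i * a * (a ^ i)⁻¹) * h₁⁻¹ := by group
        _ = h₁ * a * h₁⁻¹ := by rw [e1]
    have hc : Commute a (h₁ * a * h₁⁻¹) := by
      rw [← e]
      exact congrArg Subtype.val hg.eq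
    have h1 := conj_eq_of_commute_of_stronglyClosed S hA hAH hdisj ha hh₁ hc
    apply Subtype.ext
    show (g : G) * a * (g : G)⁻¹ = a
    rw [e, h1]
  have h2 : IsPGroup 2 (Subgroup.zpowers (⟨a, haX⟩ : X)) := by
    have h : Subgroup.zpowers (⟨a, haX⟩ : X) ≤ (S : Subgroup G).subgroupOf X := by
      rw [Subgroup.zpowers_le, Subgroup.mem_subgroupOf]; exact hA.1 ha
    exact (S.isPGroup'.comap_subtype).to_le h
  have hcomm := isIsolated_two_element hZ (⟨a, haX⟩ : X) h2 hiso ⟨h, hHX hh⟩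
  have hcH : a * h * a⁻¹ * h⁻¹ ∈ H :=
    H.mul_mem ((Subgroup.mem_normalizer_iff.mp (hAH ha) h).mp hh) (H.inv_mem hh)
  have hmem : ((⟨a, haX⟩ : X) * ⟨h, hHX hh⟩ * (⟨a, haX⟩ : X)⁻¹ * (⟨h, hHX hh⟩ : X)⁻¹) ∈
      Cfsg.pPrimeCore 2 ↥X ⊓ H.subgroupOf X :=
    ⟨hcomm, Subgroup.mem_subgroupOf.mpr hcH⟩
  have hle := Cfsg.Agent.Lib.Helper22.pPrimeCore_inf_le 2 (H.subgroupOf X)
  have hbot : Cfsg.pPrimeCore 2 ↥(H.subgroupOf X) = ⊥ := by
    have e := Cfsg.Agent.Lib.Helper22.pPrimeCore_map_equiv 2 (Subgroup.subgroupOfEquivOfLe hHX)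
    have hO' : Cfsg.pPrimeCore 2 ↥H = ⊥ := hO
    rw [hO'] at e
    exact (Subgroup.map_eq_bot_iff_of_injective _ (MulEquiv.injective _)).mp e
  rw [hbot, Subgroup.map_bot] at hle
  have h1 := hle hmem
  rw [Subgroup.mem_bot] at h1
  have h1' : a * h * a⁻¹ * h⁻¹ = 1 := congrArg Subtype.val h1
  calc h * a = (a * h * a⁻¹ * h⁻¹)⁻¹ * (a * h) := by group
    _ = a * h := by rw [h1']; group

end Cfsg.Agent.Lib.Helper46
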